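import Groth.Agent.UnipTorusLib.SemiProd
import Groth.Agent.S3006
import Groth.Agent.S8407
import Groth.Agent.S0351
import Groth.Agent.S0355
import Groth.Agent.BorelLib.RedTorus
import Groth.Agent.BorelLib.RedNormal
import Groth.Agent.MaxTorConjLib.MaxBC
import Groth.Agent.MaxTorConjLib.Geom
import Groth.Agent.WeilResLib.GeomConn
import Groth.Agent.SweepSix.GeomConn
import Groth.Agent.AlbLib.Torus

/-!
# No point of a unipotent subgroup normalised by a maximal torus commutes with the torus
-/

set_option autoImplicit false
set_option linter.style.haveILetI false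
set_option linter.unusedSectionVars false
set_option backward.isDefEq.respectTransparency false
set_option maxHeartbeats 1000000
set_option synthInstance.maxHeartbeats 400000

universe u

open CategoryTheory CategoryTheory.Limits MonoidalCategory CartesianMonoidalCategory AlgebraicGeometry
open Groth.Agent
open scoped MonObj

noncomputable section

attribute [-instance] CategoryTheory.Hom.commGroup

namespace UnipTorus

open BorelLib in
attribute [local instance] BorelLib.pTop BorelLib.pTopTensor in
/-- Over an algebraically closed field a smooth connected subgroup of a torus is a torus. -/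
theorem isTorus_of_factor {k : Type u} [Field k] [IsAlgClosed k] {G T H : Over (Spec (CommRingCat.of k))} [GrpObj G]
    [GrpObj T] [GrpObj H] [IsAffine G.left] [Smooth G.hom] (i : T ⟶ G) [IsMonHom i] [Mono i] (hT : Red.IsTorus T)
    (h : H ⟶ G) [IsMonHom h] [IsClosedImmersion h.left] [Smooth H.hom] [ConnectedSpace H.left] (f : H ⟶ T)
    (hf : f ≫ i = h) : Red.IsTorus H := by
  obtain ⟨A, _, _, v, hv, hA, -⟩ := exists_setup G
  haveI := hv; haveI := hA
  haveI : IsAffine H.left := isAffine_of_isAffineHom h.left
  exact isTorus_of_isTor v h ((isTor_ptsSub v i hT).of_le (ptsSub_le_of_factor v (f := f) hf) (isClosed_ptsSub v)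
    (isPreconnected_ptsSub v))

/-- The unit section is an isomorphism when all geometric fibres are trivial. -/
theorem isIso_hom_of_fibres {S : Scheme.{u}} {Z : Over S} [GrpObj Z] [IsSeparated Z.hom] [LocallyOfFiniteType Z.hom]
    (h : ∀ s : S, Red.IsTrivialGrp (Red.geomFibre s Z)) : IsIso Z.hom := by
  let e : 𝟙_ (Over S) ⟶ Z := η[Z]
  haveI : IsClosedImmersion e.left := by
    haveI : IsClosedImmersion (e.left ≫ Z.hom) := by
      rw [show e.left ≫ Z.hom = 𝟙 _ from Over.w e]; infer_instance
    exact IsClosedImmersion.of_comp e.left Z.hom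
  haveI : Flat (𝟙_ (Over S)).hom := inferInstanceAs (Flat (𝟙 S))
  haveI : LocallyOfFinitePresentation (𝟙_ (Over S)).hom := inferInstanceAs (LocallyOfFinitePresentation (𝟙 S))
  haveI : IsIso e := RCentre.isIso_of_le_fibres e fun s => by
    let q := Red.geomPt s
    haveI : IsIso ((Over.pullback q).map e) := by
      haveI : IsIso (Red.geomFibre s Z).hom := h s
      haveI : IsIso (Red.bc q (𝟙_ (Over S))).hom := inferInstanceAs (IsIso (pullback.snd (𝟙 S) q))
      haveI : IsIso (((Over.pullback q).map e).left ≫ (Red.geomFibre s Z).hom) := by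
        rw [show ((Over.pullback q).map e).left ≫ (Red.geomFibre s Z).hom = (Red.bc q (𝟙_ (Over S))).hom from
          Over.w ((Over.pullback q).map e)]
        infer_instance
      haveI : IsIso ((Over.pullback q).map e).left := IsIso.of_isIso_comp_right _ (Red.geomFibre s Z).hom
      haveI : IsIso ((Over.forget _).map ((Over.pullback q).map e)) := ‹IsIso ((Over.pullback q).map e).left›
      exact isIso_of_reflects_iso _ (Over.forget _)
    have hle : MultEq.LE (𝟙 Z) e q := RedRank.le_of_bc_factor _ e q (inv ((Over.pullback q).map e))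
      (by rw [IsIso.inv_hom_id, CategoryTheory.Functor.map_id])
    exact RedRank.geomPt_apply s ▸ (MultEq.le_field_iff q).1 hle
  haveI : IsIso e.left := (Over.forget _).map_isIso e
  have he : e.left ≫ Z.hom = 𝟙 S := Over.w e
  rw [← IsIso.inv_hom_id_assoc e.left Z.hom, he]
  exact IsIso.comp_isIso' inferInstance (IsIso.id _)

variable {S : Scheme.{u}} {G T U : Over S} [GrpObj G] [GrpObj T] [GrpObj U]

/-- **A point of a unipotent subgroup normalised by a maximal torus which commutes with the torus is the unit.** -/
theorem eq_one_of_commute (hG : Red.IsReductive G) (i : T ⟶ G) (hT : Red.IsMaximalTorus i) (j : U ⟶ G)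
    (hU : RedSub.IsSubgrp j) [Smooth U.hom]
    (hfib : ∀ s : S, ConnectedSpace ↥(Red.geomFibre s U).left ∧
      Red.HasNoSubtorus (AlgebraicClosure (S.residueField s)) (Red.geomFibre s U))
    (hnorm : ∀ (X : Over S) (x : X ⟶ T) (y : X ⟶ U), ∃ y' : X ⟶ U, (x ≫ i) * (y ≫ j) * (x ≫ i)⁻¹ = y' ≫ j)
    {X : Over S} (y : X ⟶ U)
    (hy : ∀ (X' : Over S) (f : X' ⟶ X) (h : X' ⟶ T), (f ≫ y ≫ j) * (h ≫ i) = (h ≫ i) * (f ≫ y ≫ j)) : y = 1 := by
  haveI := hG.1; haveI := hG.2.1; haveI := hT.1; haveI := hT.2.1; haveI := hU.1; haveI := hU.2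
  have hTt := hT.2.2.1
  haveI : Mono j := (Over.forget S).mono_of_mono_map (inferInstanceAs (Mono j.left))
  haveI : IsSeparated U.hom := by rw [← Over.w j]; infer_instance
  haveI : Smooth T.hom := MaxTorConj.smooth_of_isTorus hTt
  obtain ⟨Z, _, z, _, hzc, hZs, hz⟩ := exists_fixed i j hnorm hTt
  haveI := hzc; haveI := hZs
  haveI : Mono z := (Over.forget S).mono_of_mono_map (inferInstanceAs (Mono z.left))
  haveI : IsSeparated Z.hom := by rw [← Over.w z]; infer_instance
  suffices htriv : IsIso Z.hom by
    obtain ⟨w, hw⟩ := (hz X y).2 hy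
    rw [← hw, show w = 1 from Over.OverMorphism.ext ((cancel_mono Z.hom).1 ((Over.w w).trans (Over.w _).symm)),
      MonObj.one_comp]
  obtain ⟨P, hP⟩ := exists_semiProd i j hnorm
  letI := P; haveI := hP
  haveI := mono_emb i j
  haveI := isMonHom_inT i j hnorm
  have hcent := exists_cent i j hnorm hTt z hz
  -- the semidirect product has connected geometric fibres
  haveI : GeometricallyConnected U.hom :=
    WeilRes.geometricallyConnected_of_geomPt U.hom fun s => (hfib s).1
  haveI : GeometricallyConnected T.hom := WeilRes.geometricallyConnected_of_geomPt T.hom fun s => by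
    haveI : LocallyOfFiniteType (Red.geomFibre s T).hom :=
      MorphismProperty.pullback_snd (P := @LocallyOfFiniteType) _ _ inferInstance
    exact (AlbLib.smooth_connected_of_isTorus (RedRank.isTorus_bc hTt (Red.geomPt s))).2
  haveI hPgc : GeometricallyConnected (semi U T).hom := by
    change GeometricallyConnected (pullback.fst U.hom T.hom ≫ U.hom)
    exact GeometricallyConnected.comp _ _
  haveI hPsm : Smooth (semi U T).hom := by
    change Smooth (pullback.fst U.hom T.hom ≫ U.hom)
    infer_instance
  haveI hcl : IsClosedImmersion i.left :=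
    Transporter.isClosedImmersion_of_mono (RedRank.locally_of_isTorus hTt) hG.1 i
  obtain ⟨⟨C, _, c, hc, hcc, hcs⟩, -⟩ := S3006.result S G T i hcl hTt
  haveI := hc.1; haveI := hc.2.1
  obtain ⟨a, ha⟩ := (hc.2.2 T i).2 fun X' x h => by
    rw [← MonObj.mul_comp, ← MonObj.mul_comp, RCentre.commute_torus hTt]
  obtain ⟨w, hw⟩ := (hc.2.2 Z (z ≫ j)).2 ((hz Z z).1 ⟨𝟙 Z, Category.id_comp z⟩)
  refine isIso_hom_of_fibres fun s => ?_
  let q := Red.geomPt s
  haveI : Smooth (Red.geomFibre s G).hom := MorphismProperty.pullback_snd (P := @Smooth) _ _ inferInstance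
  haveI := RedRank.isAffineHom_bc G q
  haveI : IsAffine (Red.geomFibre s G).left := isAffine_of_isAffineHom (Red.geomFibre s G).hom
  haveI : QuasiCompact G.hom := inferInstance
  -- the geometric fibre of the fixed points is connected
  haveI : Smooth (Red.geomFibre s (semi U T)).hom := MorphismProperty.pullback_snd (P := @Smooth) _ _ inferInstance
  haveI hPc : ConnectedSpace ↥(Red.geomFibre s (semi U T)).left :=
    inferInstanceAs (ConnectedSpace ↥(pullback (semi U T).hom q))
  haveI : CompactSpace ↥(Red.geomFibre s (semi U T)).left := ⟨by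
    have h := (S0355.result _ (Red.geomFibre s (semi U T))).2
    rwa [PreconnectedSpace.connectedComponent_eq_univ] at h⟩
  haveI : QuasiCompact (Red.geomFibre s (semi U T)).hom := inferInstance
  haveI : IsMonHom (M := Red.geomFibre s T) (N := Red.geomFibre s (semi U T)) ((Over.pullback q).map (inT T U)) :=
    DiagRep.isMonHom_bc_map _ _
  haveI : Mono (inT T U) := ⟨fun {_} a b h => by
    have h' := congrArg (fun g => g ≫ snd U T) h
    simpa [inT, pair] using h'⟩
  haveI := BorelLib.mono_bc q (inT T U)
  obtain ⟨hCs, hCc⟩ := S8407.result _ (Red.geomFibre s (semi U T)) (Red.geomFibre s T)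
    ((Over.pullback q).map (inT T U)) (RedRank.isTorus_bc hTt q) (Red.geomFibre s (Z ⊗ T))
    ((Over.pullback q).map (cmap z T)) (BorelLib.isCentralizerOf_bc q hcent)
  haveI := hCc
  haveI hZc : ConnectedSpace ↥(Red.geomFibre s Z).left := by
    refine Function.Surjective.connectedSpace (f := ((Over.pullback q).map (fst Z T)).left) (fun x => ?_)
      ((Over.pullback q).map (fst Z T)).left.continuous
    refine ⟨((Over.pullback q).map (lift (𝟙 Z) 1 : Z ⟶ Z ⊗ T)).left x, ?_⟩
    rw [← Scheme.Hom.comp_apply, ← Over.comp_left, ← Functor.map_comp, lift_fst, CategoryTheory.Functor.map_id]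
    rfl
  haveI : Smooth (Red.geomFibre s Z).hom := MorphismProperty.pullback_snd (P := @Smooth) _ _ inferInstance
  -- it lies in the torus
  haveI := BorelLib.mono_bc q i
  haveI : IsMonHom (M := Red.geomFibre s T) (N := Red.geomFibre s G) ((Over.pullback q).map i) :=
    DiagRep.isMonHom_bc_map _ _
  haveI : IsIso ((Over.pullback q).map a) :=
    BorelLib.isIso_centralizer_maxTorus (IsLocalRing.closedPoint _) (BorelLib.isReductive_of_isReductiveOver (hG.2.2 s))
      (MaxTorConj.isMaximalTorus_bc hT q) (BorelLib.isCentralizerOf_bc q hc) ((Over.pullback q).map a)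
      (by rw [← Functor.map_comp, ha])
  haveI : IsMonHom (M := Red.geomFibre s Z) (N := Red.geomFibre s U) ((Over.pullback q).map z) :=
    DiagRep.isMonHom_bc_map _ _
  haveI := BorelLib.mono_bc q z
  haveI : IsMonHom (M := Red.geomFibre s Z) (N := Red.geomFibre s G) ((Over.pullback q).map (z ≫ j)) :=
    DiagRep.isMonHom_bc_map _ _
  haveI : IsImmersion ((Over.pullback q).map (z ≫ j)).left := by
    haveI : IsImmersion (z ≫ j).left := by rw [Over.comp_left]; infer_instance
    exact MorphismProperty.of_isPullback (P := @IsImmersion)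
      (BorelLib.isPullback_bc_map q (z ≫ j)) inferInstance
  haveI := S0351.result _ (Red.geomFibre s Z) (Red.geomFibre s G) ((Over.pullback q).map (z ≫ j))
  have htor : Red.IsTorus (Red.geomFibre s Z) := isTorus_of_factor ((Over.pullback q).map i)
    (RedRank.isTorus_bc hTt q) ((Over.pullback q).map (z ≫ j)) ((Over.pullback q).map w ≫ inv ((Over.pullback q).map a))
    (by
      rw [show (Over.pullback q).map i = (Over.pullback q).map a ≫ (Over.pullback q).map c from by
        rw [← Functor.map_comp, ha], Category.assoc, IsIso.inv_hom_id_assoc, ← Functor.map_comp, hw])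
  exact (hfib s).2 (Red.geomFibre s Z) ((Over.pullback q).map z) htor

end UnipTorus

end
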