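import Groth.Agent.RCentreLib.SelfCent
import Groth.Agent.RCentreLib.Torus
import Groth.Agent.SubDescLib.Main
import Groth.Agent.S5442
import Groth.Agent.BigCellLib.Extend
import Groth.Agent.RedRankLib.CommRel

/-!
# A subgroup normalised by a torus: the semidirect product and the fixed points
-/

set_option autoImplicit false
set_option linter.style.haveILetI false
set_option linter.unusedSectionVars false
set_option backward.isDefEq.respectTransparency false
set_option maxHeartbeats 1000000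

universe u

open CategoryTheory CategoryTheory.Limits MonoidalCategory CartesianMonoidalCategory AlgebraicGeometry
open Groth.Agent
open scoped MonObj

noncomputable section

attribute [-instance] CategoryTheory.Hom.commGroup

namespace UnipTorus

variable {S : Scheme.{u}} {G T U : Over S} [GrpObj G] [GrpObj T] [GrpObj U] (i : T ⟶ G) (j : U ⟶ G)

/-- The carrier of the semidirect product. -/
def semi (U T : Over S) : Over S := U ⊗ T

/-- The point of the semidirect product with given coordinates. -/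
def pair {X : Over S} (u : X ⟶ U) (t : X ⟶ T) : X ⟶ semi U T := lift u t

/-- The map from fixed points and torus. -/
def cmap {Z : Over S} (z : Z ⟶ U) (T : Over S) : Z ⊗ T ⟶ semi U T := z ⊗ₘ 𝟙 T

/-- The pair of the product and the torus coordinate. -/
def emb : semi U T ⟶ G ⊗ T := lift ((fst U T ≫ j) * (snd U T ≫ i)) (snd U T)

theorem lift_emb {X : Over S} (u : X ⟶ U) (t : X ⟶ T) : pair u t ≫ emb i j = lift ((u ≫ j) * (t ≫ i)) t := by
  show lift u t ≫ lift ((fst U T ≫ j) * (snd U T ≫ i)) (snd U T) = _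
  rw [comp_lift, MonObj.comp_mul, lift_fst_assoc, lift_snd_assoc, lift_snd]

theorem comp_pair {X X' : Over S} (f : X' ⟶ X) (u : X ⟶ U) (t : X ⟶ T) : f ≫ pair u t = pair (f ≫ u) (f ≫ t) :=
  comp_lift f u t

theorem eq_pair {X : Over S} (g : X ⟶ semi U T) : pair (g ≫ fst U T) (g ≫ snd U T) = g :=
  lift_comp_fst_snd g

theorem lift_mul {A B X : Over S} [GrpObj A] [GrpObj B] (a a' : X ⟶ A) (b b' : X ⟶ B) :
    lift a b * lift a' b' = lift (a * a') (b * b') := by
  refine CartesianMonoidalCategory.hom_ext _ _ ?_ ?_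
  · rw [MonObj.mul_comp, lift_fst, lift_fst, lift_fst]
  · rw [MonObj.mul_comp, lift_snd, lift_snd, lift_snd]

theorem mono_emb [Mono j] : Mono (emb i j) := by
  refine ⟨fun x y h => ?_⟩
  rw [← eq_pair x, ← eq_pair y, lift_emb, lift_emb] at h
  have h1 := congrArg (· ≫ snd G T) h
  have h2 := congrArg (· ≫ fst G T) h
  simp only [lift_snd, lift_fst] at h1 h2
  rw [h1] at h2
  rw [← eq_pair x, ← eq_pair y, (cancel_mono j).1 (mul_right_cancel h2), h1]

/-- The torus inside the semidirect product. -/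
def inT (T U : Over S) [GrpObj U] : T ⟶ semi U T := pair 1 (𝟙 T)

variable [IsMonHom i] [IsMonHom j] [Mono j]
  (hnorm : ∀ (X : Over S) (x : X ⟶ T) (y : X ⟶ U), ∃ y' : X ⟶ U, (x ≫ i) * (y ≫ j) * (x ≫ i)⁻¹ = y' ≫ j)
include hnorm

/-- **The semidirect product.** -/
theorem exists_semiProd : ∃ _ : GrpObj (semi U T), IsMonHom (emb i j) := by
  haveI := mono_emb i j
  refine SubDesc.exists_grpObj_of_mono (emb i j) ?_ ⟨pair 1 1, ?_⟩ ?_
  · let u := fst (U ⊗ T) (U ⊗ T) ≫ fst U T
    let t := fst (U ⊗ T) (U ⊗ T) ≫ snd U T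
    let u' := snd (U ⊗ T) (U ⊗ T) ≫ fst U T
    let t' := snd (U ⊗ T) (U ⊗ T) ≫ snd U T
    obtain ⟨y, hy⟩ := hnorm _ t u'
    refine ⟨pair (u * y) (t * t'), ?_⟩
    rw [show fst (semi U T) (semi U T) = pair u t from (eq_pair _).symm,
      show snd (semi U T) (semi U T) = pair u' t' from (eq_pair _).symm, lift_emb, lift_emb, lift_emb, lift_mul,
      MonObj.mul_comp, MonObj.mul_comp, ← hy]
    congr 1
    group
  · rw [lift_emb, MonObj.one_comp, MonObj.one_comp, _root_.one_mul]
    exact CartesianMonoidalCategory.hom_ext _ _ (by rw [lift_fst, MonObj.one_comp]) (by rw [lift_snd, MonObj.one_comp])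
  · let u := fst U T
    let t := snd U T
    obtain ⟨y, hy⟩ := hnorm _ t⁻¹ u⁻¹
    refine ⟨pair y t⁻¹, ?_⟩
    rw [lift_emb, ← hy, GrpObj.inv_comp, GrpObj.inv_comp, eq_inv_iff_mul_eq_one]
    rw [show emb i j = lift ((u ≫ j) * (t ≫ i)) t from rfl, lift_mul]
    rw [show (t ≫ i)⁻¹ * (u ≫ j)⁻¹ * (t ≫ i)⁻¹⁻¹ * (t ≫ i)⁻¹ * ((u ≫ j) * (t ≫ i)) = 1 by group, inv_mul_cancel]
    exact CartesianMonoidalCategory.hom_ext _ _ (by rw [lift_fst, MonObj.one_comp]) (by rw [lift_snd, MonObj.one_comp])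

theorem isMonHom_inT [GrpObj (semi U T)] [IsMonHom (emb i j)] : IsMonHom (inT T U) := by
  haveI := mono_emb i j
  have e : ∀ {X : Over S} (t : X ⟶ T), t ≫ inT T U ≫ emb i j = lift (t ≫ i) t := fun t => by
    rw [inT, ← Category.assoc, comp_pair, MonObj.comp_one, Category.comp_id, lift_emb, MonObj.one_comp, _root_.one_mul]
  refine BigCell.isMonHom_of_mul' _ fun X t t' => ?_
  rw [← cancel_mono (emb i j), MonObj.mul_comp _ _ (emb i j), Category.assoc, Category.assoc, Category.assoc, e, e, e,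
    lift_mul, MonObj.mul_comp]

/-- **The fixed points of the torus**: smooth, closed, and its points are those commuting with the torus. -/
theorem exists_fixed (hT : Red.IsTorus T) [IsSeparated U.hom] [Smooth U.hom] :
    ∃ (Z : Over S) (_ : GrpObj Z) (z : Z ⟶ U) (_ : IsMonHom z), IsClosedImmersion z.left ∧ Smooth Z.hom ∧
      ∀ (X : Over S) (y : X ⟶ U), (∃ w : X ⟶ Z, w ≫ z = y) ↔
        ∀ (X' : Over S) (f : X' ⟶ X) (h : X' ⟶ T), (f ≫ y ≫ j) * (h ≫ i) = (h ≫ i) * (f ≫ y ≫ j) := by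
  obtain ⟨act, hact⟩ := hnorm (T ⊗ U) (fst T U) (snd T U)
  have hpt : ∀ {X : Over S} (t : X ⟶ T) (y : X ⟶ U), (lift t y ≫ act) ≫ j = (t ≫ i) * (y ≫ j) * (t ≫ i)⁻¹ :=
    fun t y => by
      rw [Category.assoc, ← hact, MonObj.comp_mul, MonObj.comp_mul, GrpObj.comp_inv, lift_fst_assoc, lift_snd_assoc]
  let a : AlgGrp.Action T U :=
    { act := act
      one_act := by
        rw [← cancel_mono j, show η[T] ▷ U = lift (fst _ U ≫ η[T]) (snd _ U) from
          CartesianMonoidalCategory.hom_ext _ _ (by simp) (by simp), hpt, Category.assoc, IsMonHom.one_hom,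
          show fst (𝟙_ (Over S)) U ≫ η[G] = (1 : _ ⟶ G) from by
            rw [MonObj.one_eq_one, MonObj.comp_one],
          _root_.one_mul, inv_one, _root_.mul_one, leftUnitor_hom]
      mul_act := by
        rw [← cancel_mono j, show μ[T] ▷ U = lift (fst _ U ≫ μ[T]) (snd _ U) from
          CartesianMonoidalCategory.hom_ext _ _ (by simp) (by simp), hpt]
        rw [show (α_ T T U).hom ≫ (T ◁ act) ≫ act = lift (fst _ U ≫ fst T T) (lift (fst _ U ≫ snd T T) (snd _ U) ≫ act) ≫ act from by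
          rw [← Category.assoc]; congr 1
          refine CartesianMonoidalCategory.hom_ext _ _ (by simp) ?_
          rw [Category.assoc, whiskerLeft_snd, lift_snd, ← Category.assoc]
          congr 1
          exact CartesianMonoidalCategory.hom_ext _ _ (by simp) (by simp), hpt, hpt]
        simp only [MonObj.mul_eq_mul, MonObj.comp_mul, MonObj.mul_comp, Category.assoc]
        group }
  have hmul : ∀ (X : Over S) (h : X ⟶ T) (g g' : X ⟶ U),
      lift h (g * g') ≫ a.act = (lift h g ≫ a.act) * (lift h g' ≫ a.act) := fun X h g g' => by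
    rw [← cancel_mono j, MonObj.mul_comp, hpt, hpt, hpt, MonObj.mul_comp]
    group
  obtain ⟨Z, hZG, z, hz, hcl, hsm, hpts⟩ := S5442.result S T U (RedRank.isMultTypeFT_of_isTorus hT) a hmul
  refine ⟨Z, hZG, z, hz, hcl, hsm, fun X y => (hpts X y).trans (forall_congr' fun X' => forall_congr' fun f =>
    forall_congr' fun h => ?_)⟩
  rw [← cancel_mono j, hpt, Category.assoc, mul_inv_eq_iff_eq_mul]
  exact eq_comm

/-- The centralizer of the torus in the semidirect product. -/
theorem exists_cent (hT : Red.IsTorus T) [GrpObj (semi U T)] [IsMonHom (emb i j)] {Z : Over S} [GrpObj Z] (z : Z ⟶ U)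
    [IsMonHom z] [Mono z]
    (hz : ∀ (X : Over S) (y : X ⟶ U), (∃ w : X ⟶ Z, w ≫ z = y) ↔
        ∀ (X' : Over S) (f : X' ⟶ X) (h : X' ⟶ T), (f ≫ y ≫ j) * (h ≫ i) = (h ≫ i) * (f ≫ y ≫ j)) :
    Red.IsCentralizerOf (inT T U) (cmap z T) := by
  haveI := mono_emb i j
  have ec : ∀ {X : Over S} (v : X ⟶ Z ⊗ T), v ≫ cmap z T = pair ((v ≫ fst Z T) ≫ z) (v ≫ snd Z T) := fun v => by
    show v ≫ (z ⊗ₘ 𝟙 T) = lift _ _
    refine CartesianMonoidalCategory.hom_ext _ _ (by simp) (by simp)
  have hcomm : ∀ {X : Over S} (w : X ⟶ Z) (h : X ⟶ T),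
      ((w ≫ z) ≫ j) * (h ≫ i) = (h ≫ i) * ((w ≫ z) ≫ j) := fun {X} w h => by
    simpa using (hz X (w ≫ z)).1 ⟨w, rfl⟩ X (𝟙 X) h
  have heq : ∀ {X : Over S} (v v' : X ⟶ Z ⊗ T),
      (v * v') ≫ cmap z T = (v ≫ cmap z T) * (v' ≫ cmap z T) := by
    intro X v v'
    rw [← cancel_mono (emb i j), MonObj.mul_comp _ _ (emb i j), ec, ec, ec, lift_emb, lift_emb, lift_emb, lift_mul,
      MonObj.mul_comp, MonObj.mul_comp, MonObj.mul_comp, MonObj.mul_comp, MonObj.mul_comp]
    congr 1
    have := hcomm (v' ≫ fst Z T) (v ≫ snd Z T)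
    rw [_root_.mul_assoc (((v ≫ fst Z T) ≫ z) ≫ j) ((v ≫ snd Z T) ≫ i), ← _root_.mul_assoc ((v ≫ snd Z T) ≫ i), ← this]
    group
  haveI hcm : Mono (cmap z T) := ⟨fun a b h => by
    rw [ec, ec] at h
    exact CartesianMonoidalCategory.hom_ext _ _
      ((cancel_mono z).1 (by simpa [pair] using congrArg (fun g => g ≫ fst U T) h))
      (by simpa [pair] using congrArg (fun g => g ≫ snd U T) h)⟩
  refine ⟨BigCell.isMonHom_of_mul' _ fun X v v' => heq v v', hcm, fun X g => ?_⟩
  obtain ⟨y, t, rfl⟩ : ∃ (y : X ⟶ U) (t : X ⟶ T), g = pair y t :=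
    ⟨g ≫ fst U T, g ≫ snd U T, (eq_pair g).symm⟩
  have key : ∀ (X' : Over S) (f : X' ⟶ X) (h : X' ⟶ T),
      (f ≫ pair y t) * (h ≫ inT T U) = (h ≫ inT T U) * (f ≫ pair y t) ↔
        (f ≫ y ≫ j) * (h ≫ i) = (h ≫ i) * (f ≫ y ≫ j) := by
    intro X' f h
    rw [← cancel_mono (emb i j), MonObj.mul_comp, MonObj.mul_comp, comp_pair, lift_emb, inT, comp_pair,
      MonObj.comp_one, Category.comp_id, lift_emb, MonObj.one_comp, _root_.one_mul, lift_mul, lift_mul,
      RCentre.commute_torus hT (f ≫ t) h]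
    have hti : (f ≫ t ≫ i) * (h ≫ i) = (h ≫ i) * (f ≫ t ≫ i) := by
      rw [← Category.assoc, ← MonObj.mul_comp, ← MonObj.mul_comp, RCentre.commute_torus hT]
    simp only [Category.assoc]
    constructor
    · intro hh
      have h1 := congrArg (fun g => g ≫ fst G T) hh
      simp only [lift_fst] at h1
      rw [_root_.mul_assoc, hti, ← _root_.mul_assoc, ← _root_.mul_assoc, mul_left_inj] at h1
      exact h1
    · intro hh
      rw [_root_.mul_assoc, hti, ← _root_.mul_assoc, hh, _root_.mul_assoc]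
  constructor
  · rintro ⟨w, hw⟩ X' f h
    refine (key X' f h).2 ?_
    rw [ec] at hw
    have hy : y = (w ≫ fst Z T) ≫ z := by
      simpa [pair] using (congrArg (fun g => g ≫ fst U T) hw).symm
    rw [hy]
    simpa using hcomm (f ≫ w ≫ fst Z T) h
  · intro hall
    obtain ⟨w, hw⟩ := (hz X y).2 fun X' f h => (key X' f h).1 (hall X' f h)
    refine ⟨lift w t, ?_⟩
    rw [ec, lift_fst, lift_snd, hw]

end UnipTorus

end
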